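import Mathlib.RingTheory.TensorProduct.Maps
import Mathlib.RingTheory.Flat.Basic
import Mathlib.LinearAlgebra.Dual.Lemmas
import Mathlib.LinearAlgebra.FiniteDimensional.Lemmas
import Mathlib.LinearAlgebra.TensorProduct.RightExactness
import Mathlib.FieldTheory.IsAlgClosed.Basic
import Mathlib.Algebra.CharP.Lemmas
import Mathlib.Algebra.CharP.Algebra
import Mathlib.Algebra.Polynomial.Inductions

/-!
# Frobenius-semilinear endomorphisms over algebraically closed fields

Every such endomorphism of a nonzero finite-dimensional space has a stable line, so by induction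
`F - id` is surjective, has finite kernel, and its kernel is insensitive to extensions of
algebraically closed fields.
-/

universe u

open Polynomial Module TensorProduct

namespace GrothLib.Semilin

variable {k : Type u} [Field k] (p : ℕ)

lemma exists_root_sum [IsAlgClosed k] [Fact p.Prime] [CharP k p] (n : ℕ) (a : ℕ → k)
    (ha : ∃ i ≤ n, a i ≠ 0) :
    ∃ x : ℕ → k, x n ≠ 0 ∧ x 0 = a 0 * x n ^ p ∧
      ∀ i, x (i + 1) = x i ^ p + a (i + 1) * x n ^ p := by
  have hp : 1 < p := (Fact.out : p.Prime).one_lt
  let P : ℕ → k[X] := fun i => Nat.rec (C (a 0) * X ^ p) (fun j q => q ^ p + C (a (j + 1)) * X ^ p) i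
  have hd : ∀ i, derivative (P i) = 0 := by
    intro i
    cases i <;> simp [P, derivative_X_pow, derivative_pow, CharP.cast_eq_zero]
  have hdeg : ∀ i, (P i = 0 ∧ ∀ j ≤ i, a j = 0) ∨ p ≤ (P i).natDegree := by
    intro i
    induction i with
    | zero =>
      by_cases h : a 0 = 0
      · exact .inl ⟨by simp [P, h], fun j hj => by rw [Nat.le_zero.1 hj]; exact h⟩
      · exact .inr (natDegree_C_mul_X_pow p _ h).ge
    | succ i ih =>
      rcases ih with ⟨h0, hall⟩ | hge
      · by_cases h : a (i + 1) = 0
        · refine .inl ⟨?_, fun j hj => ?_⟩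
          · change P i ^ p + C (a (i + 1)) * X ^ p = 0
            simp [h0, h, zero_pow (Nat.ne_of_gt (lt_trans Nat.zero_lt_one hp))]
          · rcases Nat.lt_or_eq_of_le hj with h' | h'
            · exact hall j (by omega)
            · rw [h']; exact h
        · refine .inr ?_
          change p ≤ (P i ^ p + C (a (i + 1)) * X ^ p).natDegree
          rw [h0, zero_pow (by omega), zero_add]
          exact (natDegree_C_mul_X_pow p _ h).ge
      · refine .inr ?_
        change p ≤ (P i ^ p + C (a (i + 1)) * X ^ p).natDegree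
        have h1 : p * p ≤ (P i ^ p).natDegree := by
          rw [natDegree_pow]; exact Nat.mul_le_mul_left p hge
        have h2 : p < p * p := by nlinarith
        rw [natDegree_add_eq_left_of_natDegree_lt
          ((natDegree_C_mul_X_pow_le _ _).trans_lt (h2.trans_le h1))]
        exact h2.le.trans h1
  obtain ⟨i, hi, hai⟩ := ha
  have hn : p ≤ (P n).natDegree := (hdeg n).resolve_left fun h => hai (h.2 i hi)
  let Q := P n - X
  have hQ0 : Q.coeff 0 = 0 := by
    have : ∀ i, (P i).coeff 0 = 0 := by
      intro i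
      induction i with
      | zero => simp [P, coeff_X_pow]; omega
      | succ i ih =>
        change (P i ^ p + C (a (i + 1)) * X ^ p).coeff 0 = 0
        rw [coeff_zero_eq_eval_zero] at ih ⊢
        simp [ih, zero_pow (show p ≠ 0 by omega)]
    simp [Q, this n]
  have hQ1 : Q.coeff 1 = -1 := by
    have h := congrArg (fun q : k[X] => q.coeff 0) (hd n)
    simp [coeff_derivative] at h
    simp [Q, h]
  have hR : 0 < Q.divX.natDegree := by
    rw [natDegree_divX_eq_natDegree_tsub_one,
      show Q.natDegree = (P n).natDegree from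
        natDegree_sub_eq_left_of_natDegree_lt (by rw [natDegree_X]; omega)]
    omega
  obtain ⟨t, ht⟩ := IsAlgClosed.exists_root Q.divX (natDegree_pos_iff_degree_pos.1 hR).ne'
  have ht0 : t ≠ 0 := fun h0 => by
    rw [h0, IsRoot.def, ← coeff_zero_eq_eval_zero, coeff_divX, hQ1] at ht
    simp at ht
  have hroot : (P n).eval t = t := by
    have h := congrArg (eval t) (X_mul_divX_add Q)
    rw [hQ0, eval_add, eval_mul, ht.eq_zero, mul_zero, map_zero, eval_zero, add_zero] at h
    exact sub_eq_zero.1 (by simpa [Q] using h.symm)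
  refine ⟨fun i => (P i).eval t, ?_, ?_, fun i => ?_⟩
  · change (P n).eval t ≠ 0
    rwa [hroot]
  · change (P 0).eval t = a 0 * (P n).eval t ^ p
    rw [hroot]; simp [P]
  · change (P (i + 1)).eval t = (P i).eval t ^ p + a (i + 1) * (P n).eval t ^ p
    rw [hroot]; simp [P]

variable {V : Type u} [AddCommGroup V] [Module k V]

/-- A semilinear endomorphism of a nonzero space has a stable line. -/
theorem exists_stable [IsAlgClosed k] [Fact p.Prime] [CharP k p] [FiniteDimensional k V]
    [Nontrivial V] (F : V →+ V) (hF : ∀ (c : k) (v : V), F (c • v) = c ^ p • F v) :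
    ∃ (w : V) (l : k), w ≠ 0 ∧ F w = l • w := by
  obtain ⟨v, hv⟩ := exists_ne (0 : V)
  let S : Set ℕ := {m | ∃ a : ℕ → k, F^[m] v = ∑ i ∈ Finset.range m, a i • F^[i] v}
  have hS : S.Nonempty := by
    have hnli : ¬ LinearIndependent k fun i : Fin (finrank k V + 1) => F^[i] v := fun h => by
      have := h.fintype_card_le_finrank
      simp at this
    obtain ⟨g, hg, i₀, hi₀⟩ := Fintype.not_linearIndependent_iff.1 hnli
    classical
    let g' : ℕ → k := fun i => if h : i < finrank k V + 1 then g ⟨i, h⟩ else 0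
    have hg' : ∑ i ∈ Finset.range (finrank k V + 1), g' i • F^[i] v = 0 := by
      rw [Finset.sum_range]
      refine Eq.trans (Finset.sum_congr rfl fun i _ => ?_) hg
      simp only [g', dif_pos i.2]
    let m := Nat.findGreatest (fun i => g' i ≠ 0) (finrank k V)
    have hm : g' m ≠ 0 := Nat.findGreatest_spec (P := fun i => g' i ≠ 0) (m := i₀)
      (Nat.lt_succ_iff.1 i₀.2) (by simp only [g', dif_pos i₀.2]; exact hi₀)
    have hlarge : ∀ i ∈ Finset.range (finrank k V + 1), i ∉ Finset.range (m + 1) → g' i • F^[i] v = 0 := by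
      intro i hi hi'
      rw [Finset.mem_range] at hi hi'
      rw [not_not.1 (Nat.findGreatest_is_greatest (P := fun i => g' i ≠ 0) (n := finrank k V)
        (show m < i by omega) (by omega)), zero_smul]
    rw [← Finset.sum_subset (Finset.range_mono (by
      have := Nat.findGreatest_le (P := fun i => g' i ≠ 0) (finrank k V); omega)) hlarge,
      Finset.sum_range_succ, add_eq_zero_iff_eq_neg'] at hg'
    refine ⟨m, fun i => -((g' m)⁻¹ * g' i), ?_⟩
    have := congrArg ((g' m)⁻¹ • ·) hg'
    simp only [smul_smul, inv_mul_cancel₀ hm, one_smul, smul_neg, Finset.smul_sum] at this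
    rw [this, ← Finset.sum_neg_distrib]
    exact Finset.sum_congr rfl fun i _ => (neg_smul _ _).symm
  classical
  let m := Nat.find hS
  obtain ⟨a, ha⟩ : m ∈ S := Nat.find_spec hS
  have hm0 : m ≠ 0 := fun h => by
    rw [h] at ha
    simp at ha
    exact hv ha
  obtain ⟨n, hn⟩ := Nat.exists_eq_succ_of_ne_zero hm0
  rw [hn] at ha
  have hind : ∀ x : ℕ → k, x n ≠ 0 → ∑ i ∈ Finset.range (n + 1), x i • F^[i] v ≠ 0 := by
    intro x hx h
    refine Nat.find_min hS (show n < m by omega) ⟨fun i => -((x n)⁻¹ * x i), ?_⟩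
    rw [Finset.sum_range_succ, add_eq_zero_iff_eq_neg'] at h
    have := congrArg ((x n)⁻¹ • ·) h
    simp only [smul_smul, inv_mul_cancel₀ hx, one_smul, smul_neg, Finset.smul_sum] at this
    rw [this, ← Finset.sum_neg_distrib]
    exact Finset.sum_congr rfl fun i _ => (neg_smul _ _).symm
  by_cases h0 : ∀ i ≤ n, a i = 0
  · refine ⟨F^[n] v, 0, fun h => ?_, ?_⟩
    · exact hind (fun i => if i = n then 1 else 0) (by simp) (by simp [Finset.sum_range_succ, h])
    · rw [zero_smul, ← Function.iterate_succ_apply' F n v, ha]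
      exact Finset.sum_eq_zero fun i hi => by rw [h0 i (by simpa [Nat.lt_succ_iff] using hi), zero_smul]
  push Not at h0
  obtain ⟨x, hxn, hx0, hxs⟩ := exists_root_sum p n a h0
  refine ⟨∑ i ∈ Finset.range (n + 1), x i • F^[i] v, 1, hind x hxn, ?_⟩
  rw [one_smul, map_sum]
  simp only [hF, ← Function.iterate_succ_apply' F]
  rw [Finset.sum_range_succ, ha, Finset.smul_sum, Finset.sum_range_succ' (n := n),
    Finset.sum_range_succ' (n := n), ← add_assoc, ← Finset.sum_add_distrib]
  simp only [smul_smul, ← add_smul, Function.iterate_zero, id]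
  congr 1
  · exact Finset.sum_congr rfl fun i _ => by rw [hxs i, mul_comm (x n ^ p)]
  · rw [hx0, mul_comm (x n ^ p)]

/-- The endomorphism induced on the quotient by a stable line. -/
noncomputable def quot {V : Type u} [AddCommGroup V] [Module k V] (F : V →+ V)
    (hF : ∀ (c : k) (v : V), F (c • v) = c ^ p • F v) (w : V) (l : k) (hw : F w = l • w) :
    (V ⧸ (k ∙ w)) →+ V ⧸ (k ∙ w) :=
  QuotientAddGroup.map (k ∙ w).toAddSubgroup (k ∙ w).toAddSubgroup F fun x hx => by
    obtain ⟨c, rfl⟩ := Submodule.mem_span_singleton.1 hx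
    exact Submodule.mem_span_singleton.2 ⟨c ^ p * l, by rw [mul_smul, hF, hw]⟩

lemma quot_mkQ (F : V →+ V) (hF : ∀ (c : k) (v : V), F (c • v) = c ^ p • F v) (w : V) (l : k)
    (hw : F w = l • w) (v : V) :
    quot p F hF w l hw ((k ∙ w).mkQ v) = (k ∙ w).mkQ (F v) := rfl

lemma quot_smul (F : V →+ V) (hF : ∀ (c : k) (v : V), F (c • v) = c ^ p • F v) (w : V) (l : k)
    (hw : F w = l • w) (c : k) (x : V ⧸ (k ∙ w)) :
    quot p F hF w l hw (c • x) = c ^ p • quot p F hF w l hw x := by
  obtain ⟨v, rfl⟩ := (k ∙ w).mkQ_surjective x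
  rw [← map_smul, quot_mkQ, quot_mkQ, hF, map_smul]

/-- Induction along stable lines. -/
theorem stable_induction [IsAlgClosed k] [Fact p.Prime] [CharP k p]
    {motive : ∀ (V : Type u) [AddCommGroup V] [Module k V] [FiniteDimensional k V] (F : V →+ V)
      (_ : ∀ (c : k) (v : V), F (c • v) = c ^ p • F v), Prop}
    (base : ∀ (V : Type u) [AddCommGroup V] [Module k V] [FiniteDimensional k V] (F : V →+ V)
      (hF : ∀ (c : k) (v : V), F (c • v) = c ^ p • F v), Subsingleton V → motive V F hF)
    (step : ∀ (V : Type u) [AddCommGroup V] [Module k V] [FiniteDimensional k V] (F : V →+ V)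
      (hF : ∀ (c : k) (v : V), F (c • v) = c ^ p • F v) (w : V) (l : k) (hw : F w = l • w),
      w ≠ 0 → finrank k (V ⧸ (k ∙ w)) + 1 = finrank k V →
      motive (V ⧸ (k ∙ w)) (quot p F hF w l hw) (quot_smul p F hF w l hw) → motive V F hF)
    (V : Type u) [AddCommGroup V] [Module k V] [FiniteDimensional k V] (F : V →+ V)
    (hF : ∀ (c : k) (v : V), F (c • v) = c ^ p • F v) : motive V F hF := by
  suffices ∀ (n : ℕ) (V : Type u) [AddCommGroup V] [Module k V] [FiniteDimensional k V]
      (F : V →+ V) (hF : ∀ (c : k) (v : V), F (c • v) = c ^ p • F v), finrank k V = n → motive V F hF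
    from this _ V F hF rfl
  intro n
  induction n with
  | zero => intro V _ _ _ F hF h; exact base V F hF (finrank_zero_iff.1 h)
  | succ n ih =>
    intro V _ _ _ F hF h
    haveI : Nontrivial V := nontrivial_of_finrank_eq_succ h
    obtain ⟨w, l, hw0, hw⟩ := exists_stable p F hF
    have e : finrank k (V ⧸ (k ∙ w)) + 1 = finrank k V := by
      rw [← (k ∙ w).finrank_quotient_add_finrank, finrank_span_singleton hw0]
    exact step V F hF w l hw hw0 e (ih _ _ _ (by omega))

variable [IsAlgClosed k] [Fact p.Prime] [CharP k p] [FiniteDimensional k V] (F : V →+ V)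
  (hF : ∀ (c : k) (v : V), F (c • v) = c ^ p • F v)

lemma exists_root_line (l c : k) : ∃ d : k, l * d ^ p - d = c := by
  have hp : 1 < p := (Fact.out : p.Prime).one_lt
  by_cases hl : l = 0
  · exact ⟨-c, by simp [hl]⟩
  · have hd : (C l * X ^ p - X - C c).natDegree = p := by
      rw [natDegree_sub_C, natDegree_sub_eq_left_of_natDegree_lt (by
        rw [natDegree_C_mul_X_pow p l hl, natDegree_X]; omega), natDegree_C_mul_X_pow p l hl]
    obtain ⟨d, hd'⟩ := IsAlgClosed.exists_root (C l * X ^ p - X - C c)
      (natDegree_pos_iff_degree_pos.1 (by omega)).ne'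
    exact ⟨d, sub_eq_zero.1 (by simpa using hd')⟩

lemma linePoly_ne_zero (l : k) : (C l * X ^ p - X : k[X]) ≠ 0 := by
  have hp : 1 < p := (Fact.out : p.Prime).one_lt
  intro h
  simpa [coeff_X_pow, (show (1 : ℕ) ≠ p by omega)] using congrArg (fun q : k[X] => q.coeff 1) h

lemma linePoly_natDegree_le (l : k) : (C l * X ^ p - X : k[X]).natDegree ≤ p := by
  have hp : 1 < p := (Fact.out : p.Prime).one_lt
  refine (natDegree_sub_le _ _).trans (max_le (natDegree_C_mul_X_pow_le _ _) ?_)
  rw [natDegree_X]
  omega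

include hF in
/-- `F - id` is surjective. -/
theorem surjective_sub_id : Function.Surjective fun v => F v - v := by
  refine stable_induction p (motive := fun V _ _ _ F _ => Function.Surjective fun v => F v - v)
    ?_ ?_ V F hF
  · intro V _ _ _ F hF h v
    exact ⟨0, @Subsingleton.elim V h _ _⟩
  · intro V _ _ _ F hF w l hw hw0 _ ih v
    obtain ⟨x, hx⟩ := ih ((k ∙ w).mkQ v)
    obtain ⟨u, rfl⟩ := (k ∙ w).mkQ_surjective x
    have hmem : v - (F u - u) ∈ (k ∙ w) := by
      rw [← Submodule.Quotient.eq]
      exact hx.symm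
    obtain ⟨c, hc⟩ := Submodule.mem_span_singleton.1 hmem
    obtain ⟨d, hd⟩ := exists_root_line p l c
    refine ⟨u + d • w, ?_⟩
    change F (u + d • w) - (u + d • w) = v
    rw [map_add, hF, hw, smul_smul]
    rw [← hd, sub_smul, mul_comm] at hc
    rw [← sub_eq_zero]
    linear_combination (norm := abel) hc

include hF in
/-- The fixed vectors are finitely many. -/
theorem finite_fixed :
    Set.Finite {v : V | F v = v} ∧ Nat.card {v : V | F v = v} ≤ p ^ finrank k V := by
  refine stable_induction p (motive := fun V _ _ _ F _ =>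
    Set.Finite {v : V | F v = v} ∧ Nat.card {v : V | F v = v} ≤ p ^ finrank k V) ?_ ?_ V F hF
  · intro V _ _ _ F hF h
    refine ⟨(Set.subsingleton_of_subsingleton (α := V)).finite, ?_⟩
    rw [finrank_zero_of_subsingleton, pow_zero]
    haveI : Subsingleton {v : V | F v = v} := ⟨fun a b => Subtype.ext (@Subsingleton.elim V h _ _)⟩
    exact Finite.card_le_one_iff_subsingleton.2 inferInstance
  · intro V _ _ _ F hF w l hw hw0 hrk ih
    classical
    obtain ⟨hfin, hcard⟩ := ih
    let Fix := {v : V | F v = v}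
    let Fix' := {x : V ⧸ (k ∙ w) | quot p F hF w l hw x = x}
    let R : Set k := {c | l * c ^ p = c}
    have hR : R ⊆ (C l * X ^ p - X : k[X]).roots.toFinset := fun c hc => by
      rw [Finset.mem_coe, Multiset.mem_toFinset, mem_roots (linePoly_ne_zero p l)]
      simp [IsRoot.def, show l * c ^ p = c from hc]
    have hRfin : R.Finite := (Finset.finite_toSet _).subset hR
    have hRcard : Nat.card R ≤ p := by
      refine (Nat.card_mono (Finset.finite_toSet _) hR).trans ?_
      rw [Nat.card_coe_set_eq, Set.ncard_coe_finset]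
      exact (Multiset.toFinset_card_le _).trans ((card_roots' _).trans (linePoly_natDegree_le p l))
    let π : Fix → Fix' := fun v => ⟨(k ∙ w).mkQ v.1, by
      change quot p F hF w l hw _ = _
      rw [quot_mkQ, v.2]⟩
    let s : Fix' → V := fun x => if h : ∃ v : Fix, π v = x then h.choose.1 else 0
    have hs : ∀ v : Fix, ∃ c : R, v.1 - s (π v) = c.1 • w := fun v => by
      have h : ∃ v' : Fix, π v' = π v := ⟨v, rfl⟩
      have hsv : s (π v) = h.choose.1 := dif_pos h
      have hmem : v.1 - s (π v) ∈ (k ∙ w) := by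
        rw [← Submodule.Quotient.eq, hsv]
        exact (congrArg Subtype.val h.choose_spec).symm
      obtain ⟨c, hc⟩ := Submodule.mem_span_singleton.1 hmem
      refine ⟨⟨c, smul_left_injective k hw0 ?_⟩, hc.symm⟩
      change (l * c ^ p) • w = c • w
      rw [mul_comm, mul_smul, ← hw, ← hF, hc, map_sub, v.2, hsv, h.choose.2]
    choose c hc using hs
    have hinj : Function.Injective fun v : Fix => ((π v, c v) : Fix' × R) := fun v v' e => by
      simp only [Prod.mk.injEq] at e
      obtain ⟨e1, e2⟩ := e
      apply Subtype.ext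
      have h1 := hc v
      rw [e1, e2, ← hc v', sub_left_inj] at h1
      exact h1
    haveI : Finite R := hRfin.to_subtype
    haveI : Finite Fix' := hfin.to_subtype
    refine ⟨Set.finite_coe_iff.1 (Finite.of_injective _ hinj), ?_⟩
    refine (Nat.card_le_card_of_injective _ hinj).trans ?_
    rw [Nat.card_prod, ← hrk, pow_succ]
    exact Nat.mul_le_mul hcard hRcard

section extend

variable (k' : Type u) [Field k'] [Algebra k k']

omit [Fact p.Prime] [CharP k p] [FiniteDimensional k V] [IsAlgClosed k] in
lemma injective_one_tmul : Function.Injective fun v : V => (1 : k') ⊗ₜ[k] v := by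
  intro a b h
  rw [← sub_eq_zero, ← Module.forall_dual_apply_eq_zero_iff (R := k)]
  intro φ
  have := congrArg (TensorProduct.rid k k' ∘ LinearMap.lTensor k' φ) h
  simp only [Function.comp_apply, LinearMap.lTensor_tmul, rid_tmul] at this
  rw [map_sub, sub_eq_zero]
  exact (algebraMap k k').injective (by simpa [Algebra.smul_def] using this)

omit [Fact p.Prime] [CharP k p] [FiniteDimensional k V] [IsAlgClosed k] in
lemma tmul_left_injective {w : V} (hw : w ≠ 0) : Function.Injective fun c : k' => c ⊗ₜ[k] w := by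
  intro a b h
  obtain ⟨φ, hφ⟩ : ∃ φ : Module.Dual k V, φ w ≠ 0 := by
    by_contra h'
    push Not at h'
    exact hw ((Module.forall_dual_apply_eq_zero_iff k w).1 h')
  have := congrArg (TensorProduct.rid k k' ∘ LinearMap.lTensor k' φ) h
  simp only [Function.comp_apply, LinearMap.lTensor_tmul, rid_tmul] at this
  exact smul_right_injective k' hφ this

omit [Fact p.Prime] [CharP k p] in
lemma mem_range_of_root {q : k[X]} (hq : q ≠ 0) {x : k'} (hx : aeval x q = 0) :
    x ∈ Set.range (algebraMap k k') := by
  have hint : IsIntegral k x := IsAlgebraic.isIntegral ⟨q, hq, hx⟩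
  exact RingHom.mem_range.1 (minpoly.mem_range_of_degree_eq_one k x
    (IsAlgClosed.degree_eq_one_of_irreducible k (minpoly.irreducible hint)))

/-- The semilinear extension of `F` to `k' ⊗ V`. -/
noncomputable def extend : k' ⊗[k] V →+ k' ⊗[k] V :=
  haveI : CharP k' p := charP_of_injective_algebraMap (algebraMap k k').injective p
  TensorProduct.liftAddHom
    (AddMonoidHom.mk' (fun c => AddMonoidHom.mk' (fun v => (c ^ p) ⊗ₜ[k] F v)
      (fun v v' => by rw [map_add, tmul_add]))
      (fun c c' => by ext v; simp [add_pow_char, add_tmul]))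
    (fun r c v => by
      change ((r • c) ^ p) ⊗ₜ[k] F v = (c ^ p) ⊗ₜ[k] F (r • v)
      rw [hF, tmul_smul, smul_tmul', smul_pow])

lemma extend_tmul (c : k') (v : V) : extend p F hF k' (c ⊗ₜ v) = (c ^ p) ⊗ₜ F v :=
  TensorProduct.liftAddHom_tmul _ _ _ _

include hF in
/-- Fixed vectors do not change under extension of algebraically closed fields. -/
theorem bijOn_fixed (F' : k' ⊗[k] V →+ k' ⊗[k] V)
    (hF' : ∀ (c : k') (v : V), F' (c ⊗ₜ[k] v) = (c ^ p) ⊗ₜ[k] F v) :
    Set.BijOn (fun v : V => (1 : k') ⊗ₜ[k] v) {v : V | F v = v} {w : k' ⊗[k] V | F' w = w} := by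
  refine ⟨fun v (hv : F v = v) => by
    change F' (1 ⊗ₜ[k] v) = _
    rw [hF', one_pow, hv],
    fun a _ b _ h => injective_one_tmul k' h, ?_⟩
  refine stable_induction p (motive := fun V _ _ _ F _ => ∀ F' : k' ⊗[k] V →+ k' ⊗[k] V,
    (∀ (c : k') (v : V), F' (c ⊗ₜ[k] v) = (c ^ p) ⊗ₜ[k] F v) →
      Set.SurjOn (fun v : V => (1 : k') ⊗ₜ[k] v) {v : V | F v = v} {w : k' ⊗[k] V | F' w = w})
    ?_ ?_ V F hF F' hF'
  · intro V _ _ _ F hF h F' hF' x hx
    haveI := h
    exact ⟨0, map_zero F, Subsingleton.elim _ _⟩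
  · intro V _ _ _ F hF w l hw hw0 _ ih F' hF' x hx
    let π := LinearMap.lTensor k' (k ∙ w).mkQ
    let G := extend p (quot p F hF w l hw) (quot_smul p F hF w l hw) k'
    have hcomm : ∀ y, π (F' y) = G (π y) := fun y => by
      induction y with
      | zero => simp
      | tmul c v =>
        simp [π, G, hF', extend_tmul]
        rfl
      | add a b ha hb => simp [map_add, ha, hb]
    obtain ⟨x', hx', he⟩ := ih G (extend_tmul p _ _ k')
      (show π x ∈ {y | G y = y} by
        change G (π x) = π x
        rw [← hcomm, show F' x = x from hx])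
    obtain ⟨u, rfl⟩ := (k ∙ w).mkQ_surjective x'
    have hmem : F u - u ∈ (k ∙ w) := by
      rw [← Submodule.Quotient.eq]
      exact hx'
    obtain ⟨c, hc⟩ := Submodule.mem_span_singleton.1 hmem
    obtain ⟨d, hd⟩ := exists_root_line p l (-c)
    let v := u + d • w
    have hv : F v = v := by
      change F (u + d • w) = u + d • w
      rw [map_add, hF, hw, smul_smul]
      have hd' := congrArg (· • w) hd
      simp only [sub_smul, neg_smul, hc, mul_comm l] at hd'
      linear_combination (norm := abel) hd'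
    have hπ : π (x - 1 ⊗ₜ[k] v) = 0 := by
      have e : (k ∙ w).mkQ v = (k ∙ w).mkQ u := by
        rw [map_add, map_smul, show (k ∙ w).mkQ w = 0 from
          (Submodule.Quotient.mk_eq_zero _).2 (Submodule.mem_span_singleton_self w), smul_zero,
          add_zero]
      rw [map_sub, ← he]
      simp [π, e]
    obtain ⟨y, hy⟩ := (lTensor_exact k' (LinearMap.exact_subtype_mkQ (k ∙ w))
      (k ∙ w).mkQ_surjective _).1 hπ
    obtain ⟨e, hye⟩ : ∃ e : k', LinearMap.lTensor k' (k ∙ w).subtype y = e ⊗ₜ[k] w := by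
      clear hy
      induction y with
      | zero => exact ⟨0, by simp⟩
      | tmul c z =>
        obtain ⟨r, hr⟩ := Submodule.mem_span_singleton.1 z.2
        exact ⟨r • c, by simp [← hr, tmul_smul, smul_tmul']⟩
      | add a b ha hb =>
        obtain ⟨ea, hea⟩ := ha
        obtain ⟨eb, heb⟩ := hb
        exact ⟨ea + eb, by rw [map_add, hea, heb, add_tmul]⟩
    have hxe : e ⊗ₜ[k] w = x - 1 ⊗ₜ[k] v := hye.symm.trans hy
    have hfix : F' (e ⊗ₜ[k] w) = e ⊗ₜ[k] w := by
      rw [hxe, map_sub, hF', one_pow, hv, show F' x = x from hx]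
    rw [hF', hw, tmul_smul, smul_tmul'] at hfix
    have hroot : algebraMap k k' l * e ^ p = e := by
      rw [← Algebra.smul_def]
      exact tmul_left_injective k' hw0 hfix
    obtain ⟨r, hr⟩ := mem_range_of_root k' (linePoly_ne_zero p l) (x := e)
      (by simp [hroot])
    have hlr : l * r ^ p = r := (algebraMap k k').injective (by
      rw [map_mul, map_pow, hr, hroot])
    refine ⟨v + r • w, ?_, ?_⟩
    · change F (v + r • w) = v + r • w
      rw [map_add, hv, hF, hw, smul_smul, mul_comm, hlr]
    · change (1 : k') ⊗ₜ[k] (v + r • w) = x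
      rw [tmul_add, tmul_smul, smul_tmul', Algebra.smul_def, mul_one, hr, hxe]
      abel

end extend

end GrothLib.Semilin
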